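import Cfsg.Agent.KnownSimple.Multiplier.Suzuki
import Cfsg.Agent.Lib.Suzuki.Sylow
import Cfsg.Agent.Lib.Suzuki.Tori
import Cfsg.Agent.CG26.FieldAutCard
import Cfsg.Prelude.Def_KGroupFacts

/-!
`Out Sz(q)` consists of the field automorphisms (helper53).
-/

set_option autoImplicit false

namespace Cfsg.Agent.KnownSimple.OutSz

open Cfsg.Agent.Suzuki
open scoped Pointwise

universe u

variable {F : Type u} [Field F] [Fintype F] {m : ℕ}
variable (hF : Fintype.card F = 2 ^ (2 * m + 1))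
include hF

omit [Fintype F] hF in
theorem sig_map (τ : F ≃+* F) (x : F) : τ (sig m x) = sig m (τ x) := map_pow τ x _

theorem map_U (τ : F ≃+* F) (a b : F) :
    Matrix.SpecialLinearGroup.map (τ : F →+* F) (U hF a b : Matrix.SpecialLinearGroup (Fin 4) F) =
      (U hF (τ a) (τ b) : Matrix.SpecialLinearGroup (Fin 4) F) := by
  apply Subtype.ext
  change (umat m a b).map (τ : F →+* F) = umat m (τ a) (τ b)
  ext i j
  fin_cases i <;> fin_cases j <;>
    simp [umat, fz, Matrix.map_apply, sig_map τ]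

theorem map_T (τ : F ≃+* F) (k : Fˣ) :
    Matrix.SpecialLinearGroup.map (τ : F →+* F) (T hF k : Matrix.SpecialLinearGroup (Fin 4) F) =
      (T hF (Units.map (τ : F →* F) k) : Matrix.SpecialLinearGroup (Fin 4) F) := by
  apply Subtype.ext
  change (tel m k : Matrix (Fin 4) (Fin 4) F).map (τ : F →+* F) =
    (tel m (Units.map (τ : F →* F) k) : Matrix (Fin 4) (Fin 4) F)
  ext i j
  fin_cases i <;> fin_cases j <;>
    simp [tel, rho, Matrix.map_apply, map_inv₀, map_mul, map_pow]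

theorem map_W (τ : F ≃+* F) :
    Matrix.SpecialLinearGroup.map (τ : F →+* F) (W hF : Matrix.SpecialLinearGroup (Fin 4) F) =
      (W hF : Matrix.SpecialLinearGroup (Fin 4) F) := by
  apply Subtype.ext
  change (wel F : Matrix (Fin 4) (Fin 4) F).map (τ : F →+* F) = (wel F : Matrix (Fin 4) (Fin 4) F)
  ext i j
  fin_cases i <;> fin_cases j <;> simp [wel, Matrix.map_apply]

theorem map_mem (hm : 1 ≤ m) (τ : F ≃+* F) (g : Cfsg.Sz F m) :
    Matrix.SpecialLinearGroup.map (τ : F →+* F) (g : Matrix.SpecialLinearGroup (Fin 4) F) ∈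
      Cfsg.Sz F m := by
  rcases decompose hF hm g with ⟨a, b, k, rfl⟩ | ⟨a, b, c, d, k, rfl⟩
  · simp only [Subgroup.coe_mul, map_mul, map_U hF, map_T hF]
    exact mul_mem (Subtype.coe_prop _) (Subtype.coe_prop _)
  · simp only [Subgroup.coe_mul, map_mul, map_U hF, map_T hF, map_W hF]
    exact mul_mem (mul_mem (Subtype.coe_prop _) (Subtype.coe_prop _))
      (mul_mem (Subtype.coe_prop _) (Subtype.coe_prop _))

/-- A field automorphism acting on `Sz(q)`. -/
noncomputable def fEquiv (hm : 1 ≤ m) (τ : F ≃+* F) : MulAut (Cfsg.Sz F m) where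
  toFun g := ⟨_, map_mem hF hm τ g⟩
  invFun g := ⟨_, map_mem hF hm τ.symm g⟩
  left_inv g := by ext i j; exact τ.symm_apply_apply _
  right_inv g := by ext i j; exact τ.apply_symm_apply _
  map_mul' g h := Subtype.ext (map_mul _ _ _)

/-- The field automorphisms as a group of automorphisms of `Sz(q)`. -/
noncomputable def fAut (hm : 1 ≤ m) : (F ≃+* F) →* MulAut (Cfsg.Sz F m) :=
  MonoidHom.mk' (fEquiv hF hm) fun σ τ => by
    refine MulEquiv.ext fun g => ?_
    ext i j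
    rfl

theorem fAut_U (hm : 1 ≤ m) (τ : F ≃+* F) (a b : F) :
    fAut hF hm τ (U hF a b) = U hF (τ a) (τ b) := Subtype.ext (map_U hF τ a b)

theorem fAut_T (hm : 1 ≤ m) (τ : F ≃+* F) (k : Fˣ) :
    fAut hF hm τ (T hF k) = T hF (Units.map (τ : F →* F) k) := Subtype.ext (map_T hF τ k)

theorem U_split (a b : F) : U hF a b = U hF a 0 * U hF 0 b := by
  rw [U_mul]; simp

theorem U_sq (a b : F) : U hF a b * U hF a b = U hF 0 (sig m a * a) := by
  rw [U_mul, Suzuki.add_self hF a, Suzuki.add_self hF b, zero_add]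

theorem exists_sig_mul (b : F) : ∃ a : F, sig m a * a = b := by
  rcases eq_or_ne b 0 with rfl | hb
  · exact ⟨0, mul_zero _⟩
  · obtain ⟨k, hk⟩ := SzMult.exists_norm_unit hF b hb
    exact ⟨k, by rw [mul_comm]; exact hk⟩

/-- After composing with an inner automorphism, an automorphism fixes `USub`. -/
theorem exists_fix_USub (hm : 1 ≤ m) (α : MulAut (Cfsg.Sz F m)) :
    ∃ g, ∀ x, MulAut.conj g (α x) ∈ USub hF ↔ x ∈ USub hF := by
  classical
  haveI : Fact (Nat.Prime 2) := ⟨Nat.prime_two⟩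
  let P := (isPGroup_USub hF).toSylow (index_USub_odd hF hm)
  have hP : (P : Subgroup (Cfsg.Sz F m)) = USub hF := IsPGroup.toSylow_coe _ _
  have hQ : IsPGroup 2 ((USub hF).map α.toMonoidHom) := (isPGroup_USub hF).map _
  have hQi : ¬ 2 ∣ ((USub hF).map α.toMonoidHom).index := by
    rw [Subgroup.index_map_of_bijective α.bijective]
    exact index_USub_odd hF hm
  obtain ⟨g, hg⟩ := MulAction.exists_smul_eq (Cfsg.Sz F m) (hQ.toSylow hQi) P
  refine ⟨g, fun x => ?_⟩
  have hg' : MulAut.conj g • ((USub hF).map α.toMonoidHom) = USub hF := by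
    conv_rhs => rw [← hP, ← hg]
    rw [Sylow.smul_def, Sylow.pointwise_smul_def, IsPGroup.toSylow_coe]
  conv_lhs => rw [← hg', ← MulAut.smul_def, Subgroup.smul_mem_pointwise_smul_iff]
  exact Subgroup.mem_map_iff_mem α.injective

/-- After composing with an element of `USub`, the torus is fixed as well. -/
theorem exists_fix_T (hm : 1 ≤ m) (α : MulAut (Cfsg.Sz F m))
    (hα : ∀ x, α x ∈ USub hF ↔ x ∈ USub hF) :
    ∃ g ∈ USub hF, ∀ k, ∃ l, MulAut.conj g (α (T hF k)) = T hF l := by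
  classical
  obtain ⟨k₀, hk₀⟩ := IsCyclic.exists_generator (α := Fˣ)
  have hk₀1 : k₀ ≠ 1 := by
    obtain ⟨k, h0, h1⟩ := exists_ne_zero_one hF hm
    intro h
    have := hk₀ (Units.mk0 k h0)
    rw [h, Subgroup.zpowers_one_eq_bot, Subgroup.mem_bot] at this
    exact h1 (congrArg Units.val this)
  have hnorm : α (T hF k₀) ∈ Subgroup.normalizer (USub hF : Set (Cfsg.Sz F m)) := by
    rw [Subgroup.mem_normalizer_iff]
    intro y
    obtain ⟨x, rfl⟩ := α.surjective y
    rw [← map_inv, ← map_mul, ← map_mul, hα, hα]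
    refine ⟨?_, ?_⟩
    · rintro ⟨a, b, rfl⟩
      exact ⟨_, _, T_conj_U hF k₀ a b⟩
    · rintro ⟨a, b, e⟩
      have h3 := T_conj_U hF k₀⁻¹ a b
      rw [T_inv, inv_inv, ← e] at h3
      exact ⟨_, _, Eq.trans (by group) h3⟩
  rw [normalizer_USub hF hm, MulAction.mem_stabilizer_iff] at hnorm
  obtain ⟨a, b, k₁, hk₁⟩ := eq_U_T_of_fix hF hm _ hnorm
  have hk₁1 : k₁ ≠ 1 := by
    intro h
    rw [h, T_one, mul_one] at hk₁
    obtain ⟨c, d, e⟩ := (hα _).1 ⟨a, b, hk₁⟩
    exact hk₀1 (U_T_inj hF (show U hF 0 0 * T hF k₀ = U hF c d * T hF 1 by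
      rw [U_zero, one_mul, T_one, mul_one, e])).2.2
  obtain ⟨x, y, hxy⟩ := U_T_fix hF a b k₁ hk₁1
  rw [← hk₁] at hxy
  refine ⟨(U hF x y)⁻¹, inv_mem ⟨x, y, rfl⟩, ?_⟩
  obtain ⟨l, hl⟩ := eq_T_of_fix hF hm (MulAut.conj (U hF x y)⁻¹ (α (T hF k₀))) (by
      rw [MulAut.conj_apply, inv_inv, mul_smul, mul_smul, U_smul_inf, hnorm, inv_smul_eq_iff,
        U_smul_inf]) (by
      rw [MulAut.conj_apply, inv_inv, mul_smul, mul_smul, U_smul_zero, hxy, inv_smul_eq_iff,
        U_smul_zero])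
  intro k
  obtain ⟨n, rfl⟩ := Subgroup.mem_zpowers_iff.1 (hk₀ k)
  refine ⟨l ^ n, ?_⟩
  have h1 : ∀ k : Fˣ, ∀ n : ℤ, T hF (k ^ n) = T hF k ^ n := fun k n => map_zpow (THom hF) k n
  rw [h1, h1, map_zpow, map_zpow, hl]

/-- An automorphism fixing `USub` and the torus is a field automorphism on `U(·,0)` up to `T`. -/
theorem exists_field (hm : 1 ≤ m) (α : MulAut (Cfsg.Sz F m))
    (hα : ∀ x, α x ∈ USub hF ↔ x ∈ USub hF) (hT : ∀ k, ∃ l, α (T hF k) = T hF l) :
    ∃ (c : Fˣ) (τ : F ≃+* F), (∀ a, ∃ b, MulAut.conj (T hF c) (α (U hF a 0)) = U hF (τ a) b) ∧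
      ∀ k, MulAut.conj (T hF c) (α (T hF k)) = T hF (Units.map (τ : F →* F) k) := by
  classical
  choose π hπ using hT
  choose A B hAB using fun a => (hα (U hF a 0)).2 ⟨a, 0, rfl⟩
  have hZ : ∀ b, ∃ b', α (U hF 0 b) = U hF 0 b' := fun b => by
    obtain ⟨a, rfl⟩ := exists_sig_mul hF b
    exact ⟨sig m (A a) * A a, by rw [← U_sq hF a 0, map_mul, hAB, U_sq]⟩
  have hadd : ∀ a c, A (a + c) = A a + A c := fun a c => by
    obtain ⟨d, hd⟩ := hZ (sig m a * c)
    have h := congrArg α (U_mul hF a 0 c 0)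
    rw [map_mul, hAB, hAB, U_mul, zero_add, zero_add, U_split hF (a + c), map_mul, hAB, hd,
      U_mul, add_zero] at h
    exact (U_inj hF h).1.symm
  have hscale : ∀ (k : Fˣ) a, A ((k : F) * a) = (π k : F) * A a := fun k a => by
    have h := congrArg α (T_conj_U hF k a 0)
    rw [map_mul, map_mul, map_inv, hπ, hAB, T_conj_U, mul_zero, hAB] at h
    exact (U_inj hF h).1.symm
  have hA1 : A 1 ≠ 0 := by
    intro h
    obtain ⟨x, hx⟩ := α.surjective (U hF 1 0)
    obtain ⟨a, b, rfl⟩ := (hα x).1 (hx.symm ▸ ⟨1, 0, rfl⟩)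
    have ha : A a = 0 := by
      rcases eq_or_ne a 0 with rfl | ha
      · simpa using hadd 0 0
      · have := hscale (Units.mk0 a ha) 1
        rwa [Units.val_mk0, mul_one, h, mul_zero] at this
    obtain ⟨d, hd⟩ := hZ b
    rw [U_split hF a b, map_mul, hAB, hd, U_mul, ha, add_zero] at hx
    exact one_ne_zero (U_inj hF hx).1.symm
  let e : F → F := fun a => (A 1)⁻¹ * A a
  have heπ : ∀ k : Fˣ, e k = π k := fun k => by
    show (A 1)⁻¹ * A k = _
    rw [show A (k : F) = π k * A 1 by simpa using hscale k 1, mul_left_comm, inv_mul_cancel₀ hA1,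
      mul_one]
  have hA0 : A 0 = 0 := by simpa using hadd 0 0
  let f : F →+* F :=
    { toFun := e
      map_one' := inv_mul_cancel₀ hA1
      map_zero' := by show (A 1)⁻¹ * A 0 = 0; rw [hA0, mul_zero]
      map_add' := fun a c => by show (A 1)⁻¹ * A (a + c) = _; rw [hadd, mul_add]
      map_mul' := fun a c => by
        rcases eq_or_ne a 0 with rfl | ha
        · show (A 1)⁻¹ * A (0 * c) = (A 1)⁻¹ * A 0 * ((A 1)⁻¹ * A c)
          rw [zero_mul, hA0, mul_zero, zero_mul]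
        · have h := hscale (Units.mk0 a ha) c
          have h' := heπ (Units.mk0 a ha)
          rw [Units.val_mk0] at h h'
          show (A 1)⁻¹ * A (a * c) = e a * ((A 1)⁻¹ * A c)
          rw [h, h', mul_left_comm] }
  refine ⟨Units.mk0 (A 1)⁻¹ (inv_ne_zero hA1),
    RingEquiv.ofBijective f (Finite.injective_iff_bijective.1 f.injective),
    fun a => ⟨(A 1)⁻¹ * sig m (A 1)⁻¹ * B a, ?_⟩,
    fun k => ?_⟩
  · rw [MulAut.conj_apply, hAB, T_conj_U]
    rfl
  · rw [MulAut.conj_apply, hπ, ← T_mul, ← T_inv, ← T_mul, mul_comm, inv_mul_cancel_left]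
    exact congrArg _ (Units.ext (heπ k).symm)

/-- The rigidity step. -/
theorem eq_one_of_fix (hm : 1 ≤ m) (α : MulAut (Cfsg.Sz F m))
    (hU : ∀ a, ∃ b, α (U hF a 0) = U hF a b) (hT : ∀ k, α (T hF k) = T hF k) : α = 1 := by
  classical
  choose B hB using hU
  have hZ : ∀ b, α (U hF 0 b) = U hF 0 b := fun b => by
    obtain ⟨a, rfl⟩ := exists_sig_mul hF b
    rw [← U_sq hF a 0, map_mul, hB, U_sq, U_sq]
  have hBk : ∀ k : Fˣ, B k = (k : F) * sig m (k : F) * B 1 := fun k => by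
    have h := congrArg α (T_conj_U hF k 1 0)
    rw [map_mul, map_mul, map_inv, hT, hB, T_conj_U, mul_zero, mul_one, hB] at h
    exact (U_inj hF h).2.symm
  have hB1 : B 1 = 0 := by
    obtain ⟨a, ha0, ha1⟩ := exists_ne_zero_one hF hm
    have ha : 1 + a ≠ 0 := fun h => ha1 (eq_of_add_eq_zero hF h).symm
    have h := congrArg α (U_mul hF 1 0 a 0)
    rw [map_mul, hB, hB, U_mul, U_split hF (1 + a) (0 + 0 + _), map_mul, hB, hZ, U_mul] at h
    have h2 := (U_inj hF h).2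
    have e1 := hBk (Units.mk0 a ha0)
    have e2 := hBk (Units.mk0 (1 + a) ha)
    rw [Units.val_mk0] at e1 e2
    rw [e1, e2, Suzuki.sig_add hF, Suzuki.sig_one] at h2
    simp only [sig_one, one_mul, zero_add, add_zero, mul_zero] at h2
    have h3 : B 1 * (a + sig m a) = 0 := by linear_combination -h2
    rcases mul_eq_zero.1 h3 with h4 | h4
    · exact h4
    · exact absurd (eq_zero_or_one_of_sig_eq hF (eq_of_add_eq_zero hF h4).symm)
        (by simp [ha0, ha1])
  have hU' : ∀ a, α (U hF a 0) = U hF a 0 := fun a => by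
    rcases eq_or_ne a 0 with rfl | ha
    · rw [U_zero, map_one]
    · have := hBk (Units.mk0 a ha)
      rw [Units.val_mk0, hB1, mul_zero] at this
      rw [hB, this]
  have hUU : ∀ a b, α (U hF a b) = U hF a b := fun a b => by
    rw [U_split hF a b, map_mul, hU', hZ]
  -- the image of `W`
  obtain ⟨k₀, hk0, hk1⟩ := exists_ne_zero_one hF hm
  have hk : Units.mk0 k₀ hk0 ≠ 1 := fun h => hk1 (congrArg Units.val h)
  obtain ⟨l, hl⟩ : α (W hF) * W hF ∈ (THom hF).range := by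
    refine centralizer_T_le hF hm hk (Subgroup.mem_centralizer_singleton_iff.2 ?_)
    have h := congrArg α (W_mul_T hF (Units.mk0 k₀ hk0)⁻¹)
    rw [inv_inv, map_mul, map_mul, hT, hT] at h
    rw [mul_assoc, W_mul_T, ← mul_assoc, h, mul_assoc]
  have hW' : α (W hF) = T hF l * W hF := by
    show α (W hF) = THom hF l * W hF
    rw [hl, mul_assoc, W_mul_W, mul_one]
  obtain ⟨a, b, hab⟩ : ∃ a b, W hF • pt m (0 : F) 1 = pt m a b := by
    rcases mem_ovoid.1 (smul_mem_ovoid (W hF) (pt_mem_ovoid (0 : F) 1)) with h | h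
    · exact absurd (pt_inj (MulAction.injective (W hF) (h.trans (W_smul_zero hF).symm))).2
        one_ne_zero
    · exact h
  have hab0 : ¬ (a = 0 ∧ b = 0) := by
    rintro ⟨rfl, rfl⟩
    exact pt_ne_inf (m := m) (0 : F) 1
      (MulAction.injective (W hF) (hab.trans (W_smul_inf hF).symm))
  have hl1 : l = 1 := by
    let g := W hF * (U hF a b)⁻¹ * W hF * U hF 0 1 * W hF
    have hg : g • Cfsg.suzukiPointInfinity F = Cfsg.suzukiPointInfinity F := by
      simp only [g, mul_smul]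
      rw [W_smul_inf, U_smul_zero, hab, ← U_smul_zero hF a b, inv_smul_smul, W_smul_zero]
    obtain ⟨c, d, k, hk⟩ := eq_U_T_of_fix hF hm g hg
    have hαg : α g = g := by rw [hk, map_mul, hUU, hT]
    have h2 := congrArg (· • Cfsg.suzukiPointInfinity F) hαg
    simp only [hg, g, map_mul, map_inv, hW', hUU, mul_smul, W_smul_inf, T_smul_zero, U_smul_zero,
      hab] at h2
    rw [T_smul_pt] at h2
    have h3 : (U hF a b)⁻¹ • pt m ((l : F) * a) ((l : F) * sig m (l : F) * b) = pt m 0 0 := by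
      refine MulAction.injective (T hF l * W hF) ?_
      show (T hF l * W hF) • _ = (T hF l * W hF) • _
      rw [mul_smul, h2, mul_smul, W_smul_zero, T_smul_inf]
    rw [inv_smul_eq_iff, U_smul_zero] at h3
    obtain ⟨e1, e2⟩ := pt_inj h3
    by_cases ha : a = 0
    · have hb : b ≠ 0 := fun h => hab0 ⟨ha, h⟩
      exact Units.ext (eq_one_of_mul_sig hF l.ne_zero ((mul_eq_right₀ hb).1 e2))
    · exact Units.ext ((mul_eq_right₀ ha).1 e1)
  rw [hl1, T_one, one_mul] at hW'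
  refine MulEquiv.ext fun g => ?_
  rw [MulAut.one_apply]
  rcases decompose hF hm g with ⟨a, b, k, rfl⟩ | ⟨a, b, c, d, k, rfl⟩
  · rw [map_mul, hUU, hT]
  · rw [map_mul, map_mul, map_mul, hUU, hUU, hT, hW']

/-- Every automorphism is inner times field. -/
theorem exists_eq (hm : 1 ≤ m) (α : MulAut (Cfsg.Sz F m)) :
    ∃ g τ, α = MulAut.conj g * fAut hF hm τ := by
  obtain ⟨g₁, h₁⟩ := exists_fix_USub hF hm α
  obtain ⟨g₂, hg₂, h₂⟩ := exists_fix_T hF hm (MulAut.conj g₁ * α) h₁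
  have h₁' : ∀ x, (MulAut.conj g₂ * (MulAut.conj g₁ * α)) x ∈ USub hF ↔ x ∈ USub hF := fun x => by
    rw [← h₁ x]
    show g₂ * _ * g₂⁻¹ ∈ USub hF ↔ _
    rw [Subgroup.mul_mem_cancel_right _ (inv_mem hg₂), Subgroup.mul_mem_cancel_left _ hg₂]
    rfl
  obtain ⟨c, τ, hcU, hcT⟩ := exists_field hF hm _ h₁' h₂
  have hone : MulAut.conj (T hF c) * (MulAut.conj g₂ * (MulAut.conj g₁ * α)) *
      fAut hF hm τ.symm = 1 := by
    refine eq_one_of_fix hF hm _ (fun a => ?_) fun k => ?_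
    · obtain ⟨b, hb⟩ := hcU (τ.symm a)
      rw [RingEquiv.apply_symm_apply] at hb
      exact ⟨b, by rw [MulAut.mul_apply, fAut_U, map_zero]; exact hb⟩
    · rw [MulAut.mul_apply, fAut_T]
      refine (hcT _).trans (congrArg _ (Units.ext ?_))
      exact τ.apply_symm_apply (k : F)
  have hτ : fAut hF hm τ.symm = (fAut hF hm τ)⁻¹ := by
    rw [← map_inv]; rfl
  rw [hτ, mul_inv_eq_one, ← mul_assoc, ← mul_assoc, ← map_mul, ← map_mul] at hone
  exact ⟨(T hF c * g₂ * g₁)⁻¹, τ, by rw [← hone, map_inv, inv_mul_cancel_left]⟩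

/-- No nontrivial field automorphism is inner. -/
theorem eq_one_of_inner (hm : 1 ≤ m) (τ : F ≃+* F) (g : Cfsg.Sz F m)
    (h : MulAut.conj g = fAut hF hm τ) : τ = 1 := by
  have h' : ∀ a b, g * U hF a b * g⁻¹ = U hF (τ a) (τ b) := fun a b => by
    rw [← MulAut.conj_apply, h, fAut_U]
  have hne : U hF (1 : F) 0 ≠ 1 := fun h' =>
    one_ne_zero (α := F) (U_inj hF (h'.trans (U_zero hF).symm)).1
  have hg := TI_U hF hm g _ ⟨1, 0, rfl⟩ hne ⟨_, _, h' 1 0⟩
  rw [normalizer_USub hF hm] at hg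
  obtain ⟨a, b, k, rfl⟩ := eq_U_T_of_fix hF hm g hg
  have hx : ∀ x : F, (k : F) * x = τ x := fun x => by
    have hh := h' x 0
    rw [show U hF a b * T hF k * U hF x 0 * (U hF a b * T hF k)⁻¹ =
      U hF a b * (T hF k * U hF x 0 * (T hF k)⁻¹) * (U hF a b)⁻¹ by group, T_conj_U, U_inv,
      U_mul, U_mul] at hh
    have := (U_inj hF hh).1
    linear_combination this - a * two_eq_zero hF
  have hk : (k : F) = 1 := by simpa using hx 1
  refine RingEquiv.ext fun x => ?_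
  rw [← hx x, hk, one_mul]
  rfl

theorem card_out (hm : 1 ≤ m) : Nat.card (Cfsg.Out (Cfsg.Sz F m)) = 2 * m + 1 := by
  let ψ : (F ≃+* F) →* Cfsg.Out (Cfsg.Sz F m) :=
    (QuotientGroup.mk' (Cfsg.Inn (Cfsg.Sz F m))).comp (fAut hF hm)
  have hψ : Function.Bijective ψ := by
    refine ⟨(injective_iff_map_eq_one ψ).2 fun τ hτ => ?_, fun x => ?_⟩
    · obtain ⟨g, hg⟩ := (QuotientGroup.eq_one_iff _).1 hτ
      exact eq_one_of_inner hF hm τ g hg
    · obtain ⟨α, rfl⟩ := QuotientGroup.mk'_surjective _ x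
      obtain ⟨g, τ, rfl⟩ := exists_eq hF hm α
      refine ⟨τ, ?_⟩
      rw [map_mul, (QuotientGroup.eq_one_iff (MulAut.conj g)).2 ⟨g, rfl⟩ |>
        fun h => (show QuotientGroup.mk' (Cfsg.Inn (Cfsg.Sz F m)) (MulAut.conj g) = 1 from h),
        one_mul]
      rfl
  haveI : Fact (Nat.Prime 2) := ⟨Nat.prime_two⟩
  rw [← Nat.card_congr (Equiv.ofBijective ψ hψ), CG26.card_fieldAut 2 _ hF]

omit hF in
theorem card_out_congr {G H : Type u} [Group G] [Group H] (e : G ≃* H) :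
    Nat.card (Cfsg.Out G) = Nat.card (Cfsg.Out H) := by
  refine Nat.card_congr (QuotientGroup.congr _ _ (MulAut.congr e) ?_).toEquiv
  ext β
  constructor
  · rintro ⟨_, ⟨g, rfl⟩, rfl⟩
    exact ⟨e g, by ext x; simp⟩
  · rintro ⟨h, rfl⟩
    exact ⟨MulAut.conj (e.symm h), ⟨e.symm h, rfl⟩, by ext x; simp⟩

end Cfsg.Agent.KnownSimple.OutSz
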